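import Mathlib
import Groth.Prelude.Def_Koszul
import Groth.Prelude.Def_DRing2
import Groth.Prelude.Def_ega3
import Groth.Agent.Lib.Helper12.Koszul
import Groth.Agent.Lib.Helper94.KoszulBridge

/-!
# `tensorCx (Koszul.koszul A l) M ≅ CohIII.koszulCx M l` (helper85)
-/

set_option autoImplicit false
universe u

namespace Groth.Agent.Lib.Helper85.Serre

open CategoryTheory CategoryTheory.Limits CochainComplex MonoidalCategory
open Groth.Agent.Lib.Helper12.Koszul

variable {A : Type u} [CommRing A]

/-- the cone of multiplication by `f` is functorial for isomorphisms -/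
noncomputable def coneIso (f : A) {K L : CochainComplex (ModuleCat.{u} A) ℤ} (e : K ≅ L) :
    mappingCone (f • 𝟙 K) ≅ mappingCone (f • 𝟙 L) where
  hom := coneMap f e.hom
  inv := coneMap f e.inv
  hom_inv_id := by rw [← coneMap_comp, e.hom_inv_id, coneMap_id]
  inv_hom_id := by rw [← coneMap_comp, e.inv_hom_id, coneMap_id]

/-- `P ⊗ M` for the prelude Koszul complex is the Koszul complex of `M` -/
noncomputable def tensorCxIso (M : ModuleCat.{u} A) :
    ∀ l : List A, DRing.tensorCx (Koszul.koszul A l) M ≅ CohIII.koszulCx M l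
  | [] =>
      ((HomologicalComplex.singleMapHomologicalComplex (tensorRight M) (ComplexShape.up ℤ) 0).app
        (ModuleCat.of A A)) ≪≫
      (HomologicalComplex.single (ModuleCat.{u} A) (ComplexShape.up ℤ) 0).mapIso (λ_ M)
  | f :: l =>
      (mappingCone.mapHomologicalComplexIso (f • 𝟙 (Koszul.koszul A l)) (tensorRight M)) ≪≫
      eqToIso (by
        congr 1) ≪≫
      coneIso f (tensorCxIso M l)

end Groth.Agent.Lib.Helper85.Serre
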