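import Mathlib

/-!
# Alternating sums over `ℤ` (helper85)
-/

set_option autoImplicit false

namespace Groth.Agent.Lib.Helper85.Serre

/-- the sign `(-1)^i` -/
def sgn (i : ℤ) : ℤ := ((i.negOnePow : ℤˣ) : ℤ)

theorem sgn_succ (i : ℤ) : sgn (i + 1) = - sgn i := by
  simp [sgn, Int.negOnePow_succ]

theorem sgn_ne_zero (i : ℤ) : sgn i ≠ 0 := by
  unfold sgn
  exact Units.ne_zero _

theorem sgn_zero : sgn 0 = 1 := by simp [sgn]

/-- alternating sum -/
noncomputable def altSum (f : ℤ → ℤ) : ℤ := ∑ᶠ i : ℤ, sgn i * f i

theorem altSum_def (f : ℤ → ℤ) :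
    altSum f = ∑ᶠ i : ℤ, ((i.negOnePow : ℤˣ) : ℤ) * f i := rfl

theorem support_sgn_mul (f : ℤ → ℤ) :
    Function.support (fun i => sgn i * f i) = Function.support f := by
  ext i
  simp [Function.mem_support, sgn_ne_zero]

theorem altSum_add {f g : ℤ → ℤ} (hf : (Function.support f).Finite)
    (hg : (Function.support g).Finite) :
    altSum (fun i => f i + g i) = altSum f + altSum g := by
  unfold altSum
  rw [← finsum_add_distrib]
  · congr 1
    ext i
    ring
  · unfold Function.HasFiniteSupport
    rwa [support_sgn_mul]
  · unfold Function.HasFiniteSupport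
    rwa [support_sgn_mul]

theorem altSum_shift (f : ℤ → ℤ) : altSum (fun i => f (i + 1)) = - altSum f := by
  unfold altSum
  rw [← finsum_comp_equiv (Equiv.addRight (1 : ℤ)) (f := fun i => sgn i * f i), ← finsum_neg_distrib]
  congr 1
  ext i
  simp only [Equiv.coe_addRight, sgn_succ]
  ring

theorem support_shift_finite {f : ℤ → ℤ} (hf : (Function.support f).Finite) :
    (Function.support (fun i => f (i + 1))).Finite := by
  have : Function.support (fun i => f (i + 1)) = (Equiv.addRight (1 : ℤ)) ⁻¹' Function.support f := by
    ext i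
    simp [Function.mem_support]
  rw [this]
  exact hf.preimage (Equiv.injective _).injOn

theorem altSum_congr {f g : ℤ → ℤ} (h : ∀ i, f i = g i) : altSum f = altSum g := by
  have : f = g := funext h
  rw [this]

theorem altSum_eq_single (f : ℤ → ℤ) (h : ∀ i, i ≠ 0 → f i = 0) : altSum f = f 0 := by
  unfold altSum
  rw [finsum_eq_single _ 0 (fun i hi => by rw [h i hi, mul_zero]), sgn_zero, one_mul]

theorem altSum_zero (f : ℤ → ℤ) (h : ∀ i, f i = 0) : altSum f = 0 := by
  unfold altSum
  simp [h]

/-- the alternating sum along a long exact sequence -/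
theorem altSum_les (a b c α β γ : ℤ → ℤ) (hα : (Function.support α).Finite)
    (hβ : (Function.support β).Finite) (hγ : (Function.support γ).Finite)
    (h1 : ∀ i, a (i + 1) = γ i + α (i + 1)) (h2 : ∀ i, b i = α i + β i)
    (h3 : ∀ i, c i = β i + γ i) : altSum b = altSum a + altSum c := by
  have ha : altSum a = - altSum γ + altSum α := by
    have hs := altSum_shift a
    rw [altSum_congr h1, altSum_add hγ (support_shift_finite hα), altSum_shift α] at hs
    linarith
  rw [ha, altSum_congr h2, altSum_add hα hβ, altSum_congr h3, altSum_add hβ hγ]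
  ring

/-- the alternating sum for the cone of a map which is zero on homology -/
theorem altSum_cone (h k l : ℤ → ℤ) (hk : (Function.support k).Finite)
    (hl : (Function.support l).Finite)
    (hh : ∀ i, h i = l i + k (i + 1)) : altSum h = altSum l - altSum k := by
  rw [altSum_congr hh, altSum_add hl (support_shift_finite hk), altSum_shift]
  ring

end Groth.Agent.Lib.Helper85.Serre
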