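import Mathlib
import Groth.Agent.Lib.Helper85.Serre.AltSum
import Groth.Agent.Lib.Helper12.KoszulLES

/-!
# Euler characteristics of complexes of modules with finite length homology (helper85)
-/

set_option autoImplicit false
set_option linter.style.haveILetI false
universe u

namespace Groth.Agent.Lib.Helper85.Serre

open CategoryTheory CategoryTheory.Limits CochainComplex

variable {A : Type u} [CommRing A]

section modules

variable {X₁ X₂ X₃ : Type u} [AddCommGroup X₁] [Module A X₁] [AddCommGroup X₂] [Module A X₂]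
  [AddCommGroup X₃] [Module A X₃]

theorem length_eq_range_add_range (f : X₁ →ₗ[A] X₂) (g : X₂ →ₗ[A] X₃) (h : Function.Exact f g) :
    Module.length A X₂ =
      Module.length A (LinearMap.range f) + Module.length A (LinearMap.range g) := by
  refine Module.length_eq_add_of_exact (LinearMap.range f).subtype g.rangeRestrict
    (Submodule.injective_subtype _) g.surjective_rangeRestrict ?_
  rw [LinearMap.exact_iff, Submodule.range_subtype, LinearMap.ker_rangeRestrict]
  exact (LinearMap.exact_iff.mp h)

end modules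

/-- the length of the image of a morphism, as an integer -/
noncomputable def rk {X Y : ModuleCat.{u} A} (φ : X ⟶ Y) : ℤ :=
  ((Module.length A (LinearMap.range φ.hom)).toNat : ℤ)

theorem rk_eq_zero_of_isZero_src {X Y : ModuleCat.{u} A} (φ : X ⟶ Y) (h : IsZero X) : rk φ = 0 := by
  haveI := ModuleCat.subsingleton_of_isZero h
  have : Subsingleton (LinearMap.range φ.hom) := by
    refine ⟨fun a b => ?_⟩
    obtain ⟨a, x, rfl⟩ := a
    obtain ⟨b, y, rfl⟩ := b
    rw [Subsingleton.elim x y]
  unfold rk
  rw [Module.length_eq_zero_iff.mpr this]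
  simp

theorem rk_eq_zero_of_isZero_tgt {X Y : ModuleCat.{u} A} (φ : X ⟶ Y) (h : IsZero Y) : rk φ = 0 := by
  haveI := ModuleCat.subsingleton_of_isZero h
  have : Subsingleton (LinearMap.range φ.hom) := by
    refine ⟨fun a b => Subtype.ext (Subsingleton.elim _ _)⟩
  unfold rk
  rw [Module.length_eq_zero_iff.mpr this]
  simp

/-- in an exact sequence `X₁ → X₂ → X₃` with `X₂` of finite length, `ℓ(X₂)` is the sum of the
lengths of the two images -/
theorem toNat_length_eq_rk_add_rk (S : ShortComplex (ModuleCat.{u} A)) (hS : S.Exact)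
    (hfl : IsFiniteLength A S.X₂) :
    ((Module.length A S.X₂).toNat : ℤ) = rk S.f + rk S.g := by
  have h := length_eq_range_add_range S.f.hom S.g.hom
    ((ShortComplex.ShortExact.moduleCat_exact_iff_function_exact S).mp hS)
  have hne := Module.length_ne_top_iff.mpr hfl
  have h1 : Module.length A (LinearMap.range S.f.hom) ≠ ⊤ := by
    intro htop
    rw [htop, top_add] at h
    exact hne h
  have h2 : Module.length A (LinearMap.range S.g.hom) ≠ ⊤ := by
    intro htop
    rw [htop, add_top] at h
    exact hne h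
  unfold rk
  rw [h, ENat.toNat_add h1 h2]
  push_cast
  rfl

/-- the length of `Hⁱ` as an integer -/
noncomputable def hlen (K : CochainComplex (ModuleCat.{u} A) ℤ) (i : ℤ) : ℤ :=
  ((Module.length A (K.homology i)).toNat : ℤ)

/-- the Euler characteristic -/
noncomputable def euler (K : CochainComplex (ModuleCat.{u} A) ℤ) : ℤ := altSum (hlen K)

/-- finiteness conditions on the homology -/
structure FinH (K : CochainComplex (ModuleCat.{u} A) ℤ) : Prop where
  fl : ∀ i, IsFiniteLength A (K.homology i)
  bdd : {i : ℤ | ¬ IsZero (K.homology i)}.Finite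

theorem hlen_eq_zero_of_isZero (K : CochainComplex (ModuleCat.{u} A) ℤ) (i : ℤ)
    (h : IsZero (K.homology i)) : hlen K i = 0 := by
  haveI := ModuleCat.subsingleton_of_isZero h
  unfold hlen
  rw [Module.length_eq_zero_iff.mpr inferInstance]
  simp

theorem FinH.support_hlen {K : CochainComplex (ModuleCat.{u} A) ℤ} (h : FinH K) :
    (Function.support (hlen K)).Finite :=
  h.bdd.subset fun i hi hz => hi (hlen_eq_zero_of_isZero K i hz)

theorem hlen_eq_of_iso {K L : CochainComplex (ModuleCat.{u} A) ℤ} (i : ℤ)
    (e : K.homology i ≅ L.homology i) : hlen K i = hlen L i := by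
  unfold hlen
  rw [e.toLinearEquiv.length_eq]

theorem hlen_eq_of_quasiIso {K L : CochainComplex (ModuleCat.{u} A) ℤ} (q : K ⟶ L) [QuasiIso q]
    (i : ℤ) : hlen K i = hlen L i :=
  hlen_eq_of_iso i (asIso (HomologicalComplex.homologyMap q i))

theorem euler_eq_of_quasiIso {K L : CochainComplex (ModuleCat.{u} A) ℤ} (q : K ⟶ L) [QuasiIso q] :
    euler K = euler L :=
  altSum_congr (hlen_eq_of_quasiIso q)

/-- additivity of the Euler characteristic on short exact sequences of complexes -/
theorem euler_eq_add (S : ShortComplex (CochainComplex (ModuleCat.{u} A) ℤ)) (hS : S.ShortExact)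
    (h₁ : FinH S.X₁) (h₂ : FinH S.X₂) (h₃ : FinH S.X₃) :
    euler S.X₂ = euler S.X₁ + euler S.X₃ := by
  refine altSum_les (hlen S.X₁) (hlen S.X₂) (hlen S.X₃)
    (fun i => rk (HomologicalComplex.homologyMap S.f i))
    (fun i => rk (HomologicalComplex.homologyMap S.g i))
    (fun i => rk (hS.δ i (i + 1) rfl)) ?_ ?_ ?_ ?_ ?_ ?_
  · exact h₂.bdd.subset fun i hi hz => hi (rk_eq_zero_of_isZero_tgt _ hz)
  · exact h₂.bdd.subset fun i hi hz => hi (rk_eq_zero_of_isZero_src _ hz)
  · exact h₃.bdd.subset fun i hi hz => hi (rk_eq_zero_of_isZero_src _ hz)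
  · intro i
    exact toNat_length_eq_rk_add_rk _ (hS.homology_exact₁ i (i + 1) rfl) (h₁.fl (i + 1))
  · intro i
    exact toNat_length_eq_rk_add_rk _ (hS.homology_exact₂ i) (h₂.fl i)
  · intro i
    exact toNat_length_eq_rk_add_rk _ (hS.homology_exact₃ i (i + 1) rfl) (h₃.fl i)

open Groth.Agent.Lib.Helper12.KoszulLES in
/-- the homology of the cone of a map which vanishes on homology -/
theorem hlen_cone {K L : CochainComplex (ModuleCat.{u} A) ℤ} (φ : K ⟶ L)
    (hφ : ∀ n, HomologicalComplex.homologyMap φ n = 0) (hK : FinH K) (hL : FinH L) (n : ℤ) :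
    hlen (mappingCone φ) n = hlen L n + hlen K (n + 1) := by
  obtain ⟨δ, w₃, w₁, e₃, e₁⟩ := cone_exact₃₁ φ n
  have e₂ := cone_exact₂ φ n
  have hmono : Mono (HomologicalComplex.homologyMap (mappingCone.inr φ) n) :=
    e₂.mono_g_iff.mpr (hφ n)
  have hepi : Epi δ := e₁.epi_f_iff.mpr (hφ (n + 1))
  have hex := (ShortComplex.ShortExact.moduleCat_exact_iff_function_exact _).mp e₃
  have hlen' := Module.length_eq_add_of_exact
    (HomologicalComplex.homologyMap (mappingCone.inr φ) n).hom δ.hom
    ((ModuleCat.mono_iff_injective _).mp hmono) ((ModuleCat.epi_iff_surjective _).mp hepi) hex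
  have h1 := Module.length_ne_top_iff.mpr (hL.fl n)
  have h2 := Module.length_ne_top_iff.mpr (hK.fl (n + 1))
  unfold hlen
  have h3 : Module.length A ((mappingCone φ).homology n) =
      Module.length A (L.homology n) + Module.length A (K.homology (n + 1)) := hlen'
  rw [h3, ENat.toNat_add h1 h2]
  push_cast
  rfl

theorem euler_cone {K L : CochainComplex (ModuleCat.{u} A) ℤ} (φ : K ⟶ L)
    (hφ : ∀ n, HomologicalComplex.homologyMap φ n = 0) (hK : FinH K) (hL : FinH L) :
    euler (mappingCone φ) = euler L - euler K :=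
  altSum_cone _ _ _ hK.support_hlen hL.support_hlen (hlen_cone φ hφ hK hL)

end Groth.Agent.Lib.Helper85.Serre
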