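import Mathlib
import Groth.Agent.Lib.Helper85.Serre.Euler
import Groth.Agent.Lib.Helper85.Serre.Bridge
import Groth.Agent.Lib.Helper12.KoszulDepth
import Groth.Agent.Lib.Helper85.HS.FiniteLength

/-!
# The Euler characteristic of the Koszul complex (helper85)
-/

set_option autoImplicit false
set_option linter.style.haveILetI false
universe u

namespace Groth.Agent.Lib.Helper85.Serre

open CategoryTheory CategoryTheory.Limits CochainComplex HomComplex CohIII Pointwise
open Groth.Agent.Lib.Helper12.Koszul Groth.Agent.Lib.Helper12.KoszulLES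
  Groth.Agent.Lib.Helper12.KoszulTop Groth.Agent.Lib.Helper12.KoszulDepth
open Groth.Agent.Lib.Helper85.HS

variable {A : Type u} [CommRing A]

/-- the Koszul complex `K(l; M)` -/
noncomputable abbrev KC (l : List A) (M : Type u) [AddCommGroup M] [Module A M] :
    CochainComplex (ModuleCat.{u} A) ℤ :=
  koszulCx (ModuleCat.of A M) l

/-- the Euler characteristic `χ(l; M)` of the Koszul complex -/
noncomputable def chi (l : List A) (M : Type u) [AddCommGroup M] [Module A M] : ℤ :=
  euler (KC l M)

section annihilation

variable (l : List A) (M : Type u) [AddCommGroup M] [Module A M]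

theorem smul_id_KC_eq_zero (a : A) (ha : a ∈ Module.annihilator A M) :
    a • 𝟙 (KC l M) = 0 := by
  have h0 : a • 𝟙 (ModuleCat.of A M) = 0 := by
    ext x
    exact Module.mem_annihilator.mp ha x
  have := kMap_smul a (𝟙 (ModuleCat.of A M)) l
  rw [kMap_id, h0, kMap_zero] at this
  exact this.symm

theorem smul_homology_eq_zero_of_homologyMap {K : CochainComplex (ModuleCat.{u} A) ℤ} (a : A) (i : ℤ)
    (h : HomologicalComplex.homologyMap (a • 𝟙 K) i = 0) (y : K.homology i) : a • y = 0 := by
  rw [homologyMap_smul', HomologicalComplex.homologyMap_id] at h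
  have := congrArg (fun φ => φ.hom y) h
  exact this

theorem sup_le_annihilator_homology (i : ℤ) :
    Ideal.ofList l ⊔ Module.annihilator A M ≤ Module.annihilator A ((KC l M).homology i) := by
  refine sup_le ?_ ?_
  · intro a ha
    rw [Module.mem_annihilator]
    exact smul_homology_eq_zero_of_homologyMap a i (homologyMap_smul_eq_zero M l a ha i)
  · intro a ha
    rw [Module.mem_annihilator]
    refine smul_homology_eq_zero_of_homologyMap a i ?_
    rw [smul_id_KC_eq_zero l M a ha, HomologicalComplex.homologyMap_zero]

theorem isZero_homology_of_subsingleton [Subsingleton M] (i : ℤ) :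
    IsZero ((KC l M).homology i) := by
  rw [ModuleCat.isZero_iff_subsingleton]
  refine ⟨fun y z => ?_⟩
  have h1 : (1 : A) ∈ Module.annihilator A ((KC l M).homology i) := by
    apply sup_le_annihilator_homology l M i
    apply Ideal.mem_sup_right
    rw [Module.mem_annihilator]
    intro m
    exact Subsingleton.elim _ _
  have hy := Module.mem_annihilator.mp h1 y
  have hz := Module.mem_annihilator.mp h1 z
  rw [one_smul] at hy hz
  rw [hy, hz]

end annihilation

section finite

variable [IsNoetherianRing A]

omit [IsNoetherianRing A] in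
theorem finite_KC_X (M : Type u) [AddCommGroup M] [Module A M] [Module.Finite A M] :
    ∀ (l : List A) (i : ℤ), Module.Finite A ((KC l M).X i)
  | [], i => by
      by_cases hi : i = 0
      · subst hi
        exact Module.Finite.equiv
          (HomologicalComplex.singleObjXSelf (ComplexShape.up ℤ) 0
            (ModuleCat.of A M)).symm.toLinearEquiv
      · have hz : IsZero ((KC [] M).X i) :=
          HomologicalComplex.isZero_single_obj_X (ComplexShape.up ℤ) 0 (ModuleCat.of A M) i hi
        haveI := ModuleCat.subsingleton_of_isZero hz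
        infer_instance
  | f :: l, i => by
      haveI := finite_KC_X M l (i + 1)
      haveI := finite_KC_X M l i
      let φ := f • 𝟙 (KC l M)
      let g : ((KC l M).X (i + 1) × (KC l M).X i) →ₗ[A] (mappingCone φ).X i :=
        LinearMap.coprod ((mappingCone.inl φ).v (i + 1) i (by lia)).hom
          ((mappingCone.inr φ).f i).hom
      have hg : Function.Surjective g := by
        intro y
        refine ⟨(((mappingCone.fst φ).1.v i (i + 1) rfl).hom y,
          ((mappingCone.snd φ).v i i (add_zero i)).hom y), ?_⟩
        have := congrArg (fun ψ => ψ.hom y) (mappingCone.id_X φ i (i + 1) rfl)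
        exact this
      exact Module.Finite.of_surjective g hg

theorem finite_homology (l : List A) (M : Type u) [AddCommGroup M] [Module A M] [Module.Finite A M]
    (i : ℤ) : Module.Finite A ((KC l M).homology i) := by
  haveI := finite_KC_X M l i
  haveI : Module.Finite A ((KC l M).cycles i) :=
    Module.Finite.of_injective ((KC l M).iCycles i).hom
      ((ModuleCat.mono_iff_injective _).mp inferInstance)
  exact Module.Finite.of_surjective ((KC l M).homologyπ i).hom
    ((ModuleCat.epi_iff_surjective _).mp inferInstance)

/-- finiteness of the Koszul homology when `A ⧸ ((l) + ann M)` is Artinian -/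
theorem finH_KC (l : List A) (M : Type u) [AddCommGroup M] [Module A M] [Module.Finite A M]
    (𝔦 : Ideal A) [IsArtinianRing (A ⧸ 𝔦)] (h𝔦 : 𝔦 ≤ Ideal.ofList l ⊔ Module.annihilator A M) :
    FinH (KC l M) where
  fl i := by
    haveI := finite_homology l M i
    exact isFiniteLength_of_finite_of_torsion 𝔦 _ fun a ha y =>
      Module.mem_annihilator.mp (sup_le_annihilator_homology l M i (h𝔦 ha)) y
  bdd := by
    refine (Set.finite_Icc (-(l.length : ℤ)) 0).subset fun i hi => ?_
    rw [Set.mem_Icc]
    by_contra hcon
    rw [not_and_or, not_le, not_le] at hcon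
    rcases hcon with h | h
    · exact hi (isZero_homology_koszulCx_of_lt _ l i h)
    · exact hi (isZero_homology_koszulCx_of_pos _ l i h)

end finite

section chi

/-- additivity of `χ` on short exact sequences of modules -/
theorem chi_eq_add (l : List A) {M₁ M₂ M₃ : Type u} [AddCommGroup M₁] [Module A M₁]
    [AddCommGroup M₂] [Module A M₂] [AddCommGroup M₃] [Module A M₃]
    (f : M₁ →ₗ[A] M₂) (g : M₂ →ₗ[A] M₃) (hf : Function.Injective f) (hg : Function.Surjective g)
    (hfg : Function.Exact f g) (h₁ : FinH (KC l M₁)) (h₂ : FinH (KC l M₂)) (h₃ : FinH (KC l M₃)) :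
    chi l M₂ = chi l M₁ + chi l M₃ := by
  let S : ShortComplex (ModuleCat.{u} A) :=
    ShortComplex.mk (ModuleCat.ofHom f) (ModuleCat.ofHom g)
      (by ext x; exact hfg.apply_apply_eq_zero x)
  have hS : S.ShortExact := by
    refine ShortComplex.ShortExact.mk' ?_ ?_ ?_
    · exact (ShortComplex.ShortExact.moduleCat_exact_iff_function_exact S).mpr hfg
    · exact (ModuleCat.mono_iff_injective _).mpr hf
    · exact (ModuleCat.epi_iff_surjective _).mpr hg
  exact euler_eq_add (ShortComplex.mk (kMap S.f l) (kMap S.g l) (kMap_comp_eq_zero S l))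
    (kMap_shortExact S hS l) h₁ h₂ h₃

/-- `χ(x₁, l; M) = 0` when `x₁ M = 0` -/
theorem chi_cons_eq_zero (x₁ : A) (l : List A) (M : Type u) [AddCommGroup M] [Module A M]
    (hx : x₁ ∈ Module.annihilator A M) (h : FinH (KC l M)) : chi (x₁ :: l) M = 0 := by
  have h0 : x₁ • 𝟙 (KC l M) = 0 := smul_id_KC_eq_zero l M x₁ hx
  have := euler_cone (x₁ • 𝟙 (KC l M))
    (fun n => by rw [h0, HomologicalComplex.homologyMap_zero]) h h
  rw [sub_self] at this
  exact this

/-- `χ(x₁, l; M) = χ(l; M/x₁M)` when `x₁` is `M`-regular -/
theorem chi_cons_of_regular (x₁ : A) (l : List A) (M : Type u) [AddCommGroup M] [Module A M]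
    (hx : IsSMulRegular M x₁) : chi (x₁ :: l) M = chi l (QuotSMulTop x₁ M) := by
  obtain ⟨q, hq⟩ := exists_quasiIso_cons M x₁ hx l
  exact euler_eq_of_quasiIso q

theorem chi_nil (M : Type u) [AddCommGroup M] [Module A M] :
    chi ([] : List A) M = ((Module.length A M).toNat : ℤ) := by
  unfold chi euler
  rw [altSum_eq_single]
  · unfold hlen
    congr 2
    exact (HomologicalComplex.singleObjHomologySelfIso (ComplexShape.up ℤ) 0
      (ModuleCat.of A M)).toLinearEquiv.length_eq
  · intro i hi
    apply hlen_eq_zero_of_isZero
    rcases lt_or_gt_of_ne hi with h | h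
    · exact isZero_homology_koszulCx_of_lt _ [] i (by simpa using h)
    · exact isZero_homology_koszulCx_of_pos _ [] i h

theorem chi_of_subsingleton (l : List A) (M : Type u) [AddCommGroup M] [Module A M]
    [Subsingleton M] : chi l M = 0 :=
  altSum_zero _ fun i => hlen_eq_zero_of_isZero _ i (isZero_homology_of_subsingleton l M i)

theorem chi_congr (l : List A) {M N : Type u} [AddCommGroup M] [Module A M]
    [AddCommGroup N] [Module A N] (e : M ≃ₗ[A] N) : chi l M = chi l N :=
  altSum_congr fun i => hlen_eq_of_iso i
    ((HomologicalComplex.homologyFunctor _ _ i).mapIso (kIso e.toModuleIso l))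

/-- the Euler characteristic in the form of the frozen statements -/
theorem chi_eq_tensorCx (l : List A) (M : Type u) [AddCommGroup M] [Module A M] :
    (∑ᶠ i : ℤ, ((i.negOnePow : ℤˣ) : ℤ) *
      ((Module.length A ((DRing.tensorCx (Koszul.koszul A l) (ModuleCat.of A M)).homology i)).toNat :
        ℤ)) = chi l M := by
  unfold chi euler
  rw [altSum_def]
  congr 1
  ext i
  unfold hlen
  congr 3
  exact ((HomologicalComplex.homologyFunctor _ _ i).mapIso
    (tensorCxIso (ModuleCat.of A M) l)).toLinearEquiv.length_eq

end chi

end Groth.Agent.Lib.Helper85.Serre
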