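import Mathlib
import Groth.Agent.Lib.Helper85.Serre.KChi
import Groth.Agent.Lib.Helper73.LeftDerivedLES
import Groth.Agent.Lib.Helper17.DeltaLite

/-!
# Koszul homology of a regular sequence computes `Tor(A/I, -)` (helper85)
-/

set_option autoImplicit false
set_option linter.style.haveILetI false
universe u

namespace Groth.Agent.Lib.Helper85.KTor

open CategoryTheory CategoryTheory.Limits CochainComplex HomComplex CohIII Pointwise
  MonoidalCategory
open Groth.Agent.Lib.Helper12.Koszul Groth.Agent.Lib.Helper12.KoszulLES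
  Groth.Agent.Lib.Helper12.KoszulTop Groth.Agent.Lib.Helper12.KoszulDepth
open Groth.Agent.Lib.Helper17 Groth.Agent.Lib.Helper73

variable {A : Type u} [CommRing A]

/-- the Koszul complex functor -/
noncomputable def kFunctor (l : List A) :
    ModuleCat.{u} A ⥤ CochainComplex (ModuleCat.{u} A) ℤ where
  obj M := koszulCx M l
  map g := kMap g l
  map_id M := kMap_id M l
  map_comp g h := kMap_comp g h l

/-- Koszul homology functors `H_n(l; -)` -/
noncomputable def TK (l : List A) (n : ℕ) : ModuleCat.{u} A ⥤ ModuleCat.{u} A :=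
  kFunctor l ⋙ HomologicalComplex.homologyFunctor _ _ (-(n : ℤ))

theorem isZero_TK_succ_of_flat (l : List A) (hreg : RingTheory.Sequence.IsWeaklyRegular A l)
    (P : Type u) [AddCommGroup P] [Module A P] [Module.Flat A P] (n : ℕ) :
    IsZero ((TK l (n + 1)).obj (ModuleCat.of A P)) := by
  have h1 : RingTheory.Sequence.IsWeaklyRegular P l :=
    ((TensorProduct.rid A P).isWeaklyRegular_congr l).mp hreg.isWeaklyRegular_lTensor
  change IsZero ((koszulCx (ModuleCat.of A P) l).homology (-((n + 1 : ℕ) : ℤ)))
  by_cases hn : n + 1 ≤ l.length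
  · have h2 := isZero_koszulH_of_isWeaklyRegular l P h1 (l.length - (n + 1)) (by omega)
    have e : (((l.length - (n + 1) : ℕ) : ℤ) - (l.length : ℤ)) = -((n + 1 : ℕ) : ℤ) := by
      rw [Nat.cast_sub hn]
      ring
    have key : ∀ i j : ℤ, i = j → IsZero ((koszulCx (ModuleCat.of A P) l).homology i) →
        IsZero ((koszulCx (ModuleCat.of A P) l).homology j) := by
      rintro i j rfl h
      exact h
    exact key _ _ e h2
  · apply isZero_homology_koszulCx_of_lt
    push_cast
    omega

theorem isDeltaLite_TK (l : List A) (hreg : RingTheory.Sequence.IsWeaklyRegular A l) :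
    IsDeltaLite (TK l) where
  les {S} hS n := by
    have h := kMap_shortExact S hS l
    have hrel : (ComplexShape.up ℤ).Rel (-((n + 1 : ℕ) : ℤ)) (-(n : ℤ)) := by
      simp only [ComplexShape.up_Rel]
      push_cast
      ring
    exact ⟨h.δ _ _ hrel, h.comp_δ _ _ hrel, h.δ_comp _ _ hrel, h.homology_exact₃ _ _ hrel,
      h.homology_exact₁ _ _ hrel⟩
  vanish P _ n := by
    haveI : Module.Projective A P := (IsProjective.iff_projective P).mpr inferInstance
    exact isZero_TK_succ_of_flat l hreg P n

/-- `K(l; M) ⟶ K(f :: l; M)` -/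
noncomputable def kInr (M : ModuleCat.{u} A) (f : A) (fs : List A) :
    koszulCx M fs ⟶ koszulCx M (f :: fs) :=
  mappingCone.inr (f • 𝟙 (koszulCx M fs))

lemma kInr_naturality {M N : ModuleCat.{u} A} (g : M ⟶ N) (f : A) (fs : List A) :
    kInr M f fs ≫ kMap g (f :: fs) = kMap g fs ≫ kInr N f fs := by
  refine HomologicalComplex.hom_ext _ _ (fun p => ?_)
  exact inr_f_coneMap_f f (kMap g fs) p

/-- `M[0] ≅ K([]; M)` -/
noncomputable def kNil (M : ModuleCat.{u} A) :
    (HomologicalComplex.single (ModuleCat.{u} A) (ComplexShape.up ℤ) 0).obj M ≅ koszulCx M [] :=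
  Iso.refl _

lemma kNil_naturality {M N : ModuleCat.{u} A} (g : M ⟶ N) :
    (HomologicalComplex.single (ModuleCat.{u} A) (ComplexShape.up ℤ) 0).map g ≫ (kNil N).hom =
      (kNil M).hom ≫ kMap g [] :=
  (Category.comp_id _).trans (Category.id_comp _).symm

/-- the canonical map `M[0] ⟶ K(l; M)` -/
noncomputable def kIota (M : ModuleCat.{u} A) : ∀ l : List A,
    (HomologicalComplex.single (ModuleCat.{u} A) (ComplexShape.up ℤ) 0).obj M ⟶ koszulCx M l
  | [] => (kNil M).hom
  | f :: fs => kIota M fs ≫ kInr M f fs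

lemma kIota_nil (M : ModuleCat.{u} A) : kIota M [] = (kNil M).hom := rfl

lemma kIota_cons (M : ModuleCat.{u} A) (f : A) (fs : List A) :
    kIota M (f :: fs) = kIota M fs ≫ kInr M f fs := rfl

lemma kIota_naturality {M N : ModuleCat.{u} A} (g : M ⟶ N) : ∀ l : List A,
    (HomologicalComplex.single (ModuleCat.{u} A) (ComplexShape.up ℤ) 0).map g ≫ kIota N l =
      kIota M l ≫ kMap g l
  | [] => by
    rw [kIota_nil, kIota_nil, kNil_naturality]
  | f :: fs => by
    rw [kIota_cons, kIota_cons, ← Category.assoc, kIota_naturality g fs,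
      Category.assoc, Category.assoc, kInr_naturality]

/-- the canonical map `M ⟶ H⁰(K(l; M))` -/
noncomputable def alphaApp (l : List A) (M : ModuleCat.{u} A) :
    M ⟶ (koszulCx M l).homology 0 :=
  (HomologicalComplex.singleObjHomologySelfIso (ComplexShape.up ℤ) 0 M).inv ≫
    HomologicalComplex.homologyMap (kIota M l) 0

lemma alphaApp_naturality (l : List A) {M N : ModuleCat.{u} A} (g : M ⟶ N) :
    g ≫ alphaApp l N = alphaApp l M ≫ HomologicalComplex.homologyMap (kMap g l) 0 := by
  unfold alphaApp
  rw [Category.assoc, ← HomologicalComplex.homologyMap_comp, ← kIota_naturality,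
    HomologicalComplex.homologyMap_comp,
    HomologicalComplex.singleObjHomologySelfIso_inv_naturality_assoc]

lemma alphaApp_cons (f : A) (fs : List A) (M : ModuleCat.{u} A) :
    alphaApp (f :: fs) M = alphaApp fs M ≫
      HomologicalComplex.homologyMap (kInr M f fs) 0 := by
  unfold alphaApp
  rw [kIota_cons, HomologicalComplex.homologyMap_comp, Category.assoc]

theorem alphaApp_spec (l : List A) : ∀ (M : ModuleCat.{u} A),
    Function.Surjective (alphaApp l M).hom ∧
      ∀ m : M, (alphaApp l M).hom m = 0 ↔ m ∈ Ideal.ofList l • (⊤ : Submodule A M) := by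
  induction l with
  | nil =>
    intro M
    have hiso : IsIso (alphaApp [] M) := by
      unfold alphaApp
      rw [kIota_nil]
      infer_instance
    have hbij : Function.Bijective (alphaApp [] M).hom :=
      (ConcreteCategory.isIso_iff_bijective _).mp hiso
    refine ⟨hbij.2, fun m => ?_⟩
    rw [Ideal.ofList_nil, Submodule.bot_smul, Submodule.mem_bot]
    constructor
    · intro h
      exact hbij.1 (h.trans (map_zero _).symm)
    · rintro rfl
      exact map_zero _
  | cons f fs ih =>
    intro M
    obtain ⟨hsurj, hker⟩ := ih M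
    let K := koszulCx M fs
    let g : K.homology 0 ⟶ (koszulCx M (f :: fs)).homology 0 :=
      HomologicalComplex.homologyMap (kInr M f fs) 0
    have hepi : Epi g := epi_homologyMap_inr (f • 𝟙 K) 0
      (isZero_homology_koszulCx_of_pos _ fs _ (by norm_num))
    have hgs : Function.Surjective g.hom := (ModuleCat.epi_iff_surjective g).mp hepi
    have hex := cone_exact₂ (f • 𝟙 K) 0
    rw [ShortComplex.moduleCat_exact_iff] at hex
    have hex' : ∀ y : K.homology 0, g.hom y = 0 →
        ∃ z, (HomologicalComplex.homologyMap (f • 𝟙 K) 0).hom z = y := hex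
    have hzero : ∀ z : K.homology 0,
        g.hom ((HomologicalComplex.homologyMap (f • 𝟙 K) 0).hom z) = 0 := fun z =>
      congrArg (fun φ => φ.hom z) (homologyMap_comp_inr (f • 𝟙 K) 0)
    have hf : ∀ y : K.homology 0, (HomologicalComplex.homologyMap (f • 𝟙 K) 0).hom y = f • y := by
      intro y
      rw [homologyMap_smul', HomologicalComplex.homologyMap_id]
      rfl
    have hcomp : ∀ m : M, (alphaApp (f :: fs) M).hom m = g.hom ((alphaApp fs M).hom m) := by
      intro m
      rw [alphaApp_cons]
      rfl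
    refine ⟨fun z => ?_, fun m => ?_⟩
    · obtain ⟨y, rfl⟩ := hgs z
      obtain ⟨m, rfl⟩ := hsurj y
      exact ⟨m, hcomp m⟩
    · rw [hcomp, Ideal.ofList_cons, Submodule.sup_smul, Submodule.ideal_span_singleton_smul,
        Submodule.mem_sup]
      constructor
      · intro h
        obtain ⟨y, hy⟩ := hex' _ h
        obtain ⟨m', rfl⟩ := hsurj y
        have h1 : (alphaApp fs M).hom (m - f • m') = 0 := by
          rw [map_sub, map_smul, sub_eq_zero]
          exact ((hf _).symm.trans hy).symm
        exact ⟨f • m', Submodule.smul_mem_pointwise_smul m' f ⊤ trivial, m - f • m',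
          (hker _).mp h1, by abel⟩
      · rintro ⟨a, ha, b, hb, rfl⟩
        obtain ⟨m', -, rfl⟩ := (Submodule.mem_smul_pointwise_iff_exists _ _ _).mp ha
        rw [map_add, (hker b).mpr hb, add_zero, map_smul, ← hf]
        exact hzero _

section NatIso

variable {G₁ G₂ : ModuleCat.{u} A ⥤ ModuleCat.{u} A} (α : 𝟭 (ModuleCat.{u} A) ⟶ G₁)
  (β : 𝟭 (ModuleCat.{u} A) ⟶ G₂)
  (hα : ∀ M, Function.Surjective (α.app M).hom) (hβ : ∀ M, Function.Surjective (β.app M).hom)
  (hker : ∀ (M : ModuleCat.{u} A) (m : M), (α.app M).hom m = 0 ↔ (β.app M).hom m = 0)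

/-- two quotients of `M` with the same kernel are isomorphic -/
noncomputable def compEquiv (M : ModuleCat.{u} A) : G₁.obj M ≃ₗ[A] G₂.obj M :=
  (LinearMap.quotKerEquivOfSurjective _ (hα M)).symm ≪≫ₗ
    Submodule.quotEquivOfEq _ _ (by
      ext m
      rw [LinearMap.mem_ker, LinearMap.mem_ker]
      exact hker M m) ≪≫ₗ
    LinearMap.quotKerEquivOfSurjective _ (hβ M)

lemma compEquiv_apply (M : ModuleCat.{u} A) (m : M) :
    compEquiv α β hα hβ hker M ((α.app M).hom m) = (β.app M).hom m := by
  unfold compEquiv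
  have h1 : (LinearMap.quotKerEquivOfSurjective _ (hα M)).symm ((α.app M).hom m) =
      Submodule.Quotient.mk m := by
    rw [LinearEquiv.symm_apply_eq, LinearMap.quotKerEquivOfSurjective_apply_mk]
  rw [LinearEquiv.trans_apply, LinearEquiv.trans_apply, h1, Submodule.quotEquivOfEq_mk,
    LinearMap.quotKerEquivOfSurjective_apply_mk]

/-- two natural quotients of the identity functor with the same kernels are isomorphic -/
noncomputable def natIsoOfSurjective : G₁ ≅ G₂ :=
  NatIso.ofComponents (fun M => (compEquiv α β hα hβ hker M).toModuleIso) (by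
    intro M N g
    haveI : Epi (α.app M) := (ModuleCat.epi_iff_surjective _).mpr (hα M)
    rw [← cancel_epi (α.app M)]
    ext m
    have h1 : (α.app M ≫ G₁.map g) = g ≫ α.app N := (α.naturality g).symm
    have h2 : (β.app M ≫ G₂.map g) = g ≫ β.app N := (β.naturality g).symm
    have h1' : (G₁.map g).hom ((α.app M).hom m) = (α.app N).hom (g.hom m) :=
      congrArg (fun φ => φ.hom m) h1
    have h2' : (G₂.map g).hom ((β.app M).hom m) = (β.app N).hom (g.hom m) :=
      congrArg (fun φ => φ.hom m) h2
    change compEquiv α β hα hβ hker N ((G₁.map g).hom ((α.app M).hom m)) =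
      (G₂.map g).hom (compEquiv α β hα hβ hker M ((α.app M).hom m))
    rw [h1', compEquiv_apply, compEquiv_apply, h2'])

end NatIso

/-- the natural map `M ⟶ H⁰(K(l; M))` -/
noncomputable def alpha (l : List A) : 𝟭 (ModuleCat.{u} A) ⟶ TK l 0 where
  app M := alphaApp l M
  naturality _ _ g := alphaApp_naturality l g

section Beta

variable (I : Ideal A)

/-- the natural map `M ⟶ (A/I) ⊗ M` -/
noncomputable def beta : 𝟭 (ModuleCat.{u} A) ⟶ tensorLeft (ModuleCat.of A (A ⧸ I)) where
  app M := ModuleCat.ofHom (TensorProduct.mk A (A ⧸ I) M 1)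
  naturality M N g := by
    ext m
    rfl

lemma beta_spec (M : ModuleCat.{u} A) :
    Function.Surjective ((beta I).app M).hom ∧
      ∀ m : M, ((beta I).app M).hom m = 0 ↔ m ∈ I • (⊤ : Submodule A M) := by
  let e := TensorProduct.quotTensorEquivQuotSMul M I
  have h1 : ∀ m : M, e (((beta I).app M).hom m) = Submodule.Quotient.mk m := by
    intro m
    change e (Ideal.Quotient.mk I 1 ⊗ₜ[A] m) = _
    rw [TensorProduct.quotTensorEquivQuotSMul_mk_tmul, one_smul]
  constructor
  · intro z
    obtain ⟨m, hm⟩ := Submodule.Quotient.mk_surjective _ (e z)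
    exact ⟨m, e.injective ((h1 m).trans hm)⟩
  · intro m
    rw [← Submodule.Quotient.mk_eq_zero, ← h1 m, LinearEquiv.map_eq_zero_iff]

end Beta

section Main

variable (l : List A)

/-- `H⁰(K(l; -)) ≅ (A/(l)) ⊗ -` -/
noncomputable def tkZeroIso : TK l 0 ≅ tensorLeft (ModuleCat.of A (A ⧸ Ideal.ofList l)) :=
  natIsoOfSurjective (alpha l) (beta (Ideal.ofList l))
    (fun M => (alphaApp_spec l M).1) (fun M => (beta_spec _ M).1)
    (fun M m => ((alphaApp_spec l M).2 m).trans ((beta_spec _ M).2 m).symm)

/-- the left derived functors of `X ⊗ -` -/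
noncomputable abbrev T' (X : ModuleCat.{u} A) (n : ℕ) : ModuleCat.{u} A ⥤ ModuleCat.{u} A :=
  ((tensoringLeft (ModuleCat.{u} A)).obj X).leftDerived n

theorem isDeltaLite_T' (X : ModuleCat.{u} A) : IsDeltaLite (T' X) where
  les hS n := (leftDerived_les _ hS n).2
  vanish P _ n := Functor.isZero_leftDerived_obj_projective_succ _ n P

instance (X : ModuleCat.{u} A) :
    PreservesFiniteColimits ((tensoringLeft (ModuleCat.{u} A)).obj X) := by
  change PreservesFiniteColimits (tensorLeft X)
  infer_instance

/-- the degree zero comparison -/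
noncomputable def eZero : TK l 0 ≅ T' (ModuleCat.of A (A ⧸ Ideal.ofList l)) 0 :=
  tkZeroIso l ≪≫ (Functor.leftDerivedZeroIsoSelf
    ((tensoringLeft (ModuleCat.{u} A)).obj (ModuleCat.of A (A ⧸ Ideal.ofList l)))).symm

/-- **Koszul homology of a regular sequence computes `Tor(A/(l), -)`** -/
theorem nonempty_linearEquiv_tor (hreg : RingTheory.Sequence.IsWeaklyRegular A l) (n : ℕ)
    (M : Type u) [AddCommGroup M] [Module A M] :
    Nonempty (↑((koszulCx (ModuleCat.of A M) l).homology (-(n : ℤ))) ≃ₗ[A]
      DRing.Tor A n (A ⧸ Ideal.ofList l) M) := by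
  obtain ⟨e⟩ := (isDeltaLite_TK l hreg).nonempty_iso
    (isDeltaLite_T' (ModuleCat.of A (A ⧸ Ideal.ofList l))) (eZero l) n (ModuleCat.of A M)
  exact ⟨e.toLinearEquiv⟩

end Main

end Groth.Agent.Lib.Helper85.KTor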