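import Mathlib
import Groth.Agent.Lib.Helper85.Serre.KChi
import Groth.Agent.Lib.Helper85.HS.RegularStep
import Groth.Agent.Lib.Helper85.HS.Additive

/-!
# Serre's theorem: the Koszul Euler characteristic is the Samuel multiplicity (helper85)
-/

set_option autoImplicit false
set_option linter.style.haveILetI false
universe u

namespace Groth.Agent.Lib.Helper85.Serre

open CategoryTheory CategoryTheory.Limits Pointwise Module Filter Topology
open Groth.Agent.Lib.Helper85.HS

variable {A : Type u} [CommRing A]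

section ideals

theorem sup_pow_le_pow_sup (J 𝔞 : Ideal A) (n : ℕ) : (J ⊔ 𝔞) ^ n ≤ J ^ n ⊔ 𝔞 := by
  induction n with
  | zero => simp
  | succ n ih =>
    have h1 : (J ⊔ 𝔞) ^ (n + 1) = (J ⊔ 𝔞) * (J ⊔ 𝔞) ^ n := pow_succ' _ n
    have h2 : J ^ (n + 1) = J * J ^ n := pow_succ' _ n
    rw [h1, h2]
    refine (Ideal.mul_mono le_rfl ih).trans ?_
    rw [Ideal.sup_mul, Ideal.mul_sup, Ideal.mul_sup]
    refine sup_le (sup_le le_sup_left ?_) (sup_le ?_ ?_)
    · exact le_sup_of_le_right Ideal.mul_le_right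
    · exact le_sup_of_le_right Ideal.mul_le_left
    · exact le_sup_of_le_right Ideal.mul_le_left

variable {N : Type u} [AddCommGroup N] [Module A N]

theorem sup_pow_smul_top_eq (J 𝔞 : Ideal A) (h𝔞 : 𝔞 ≤ Module.annihilator A N) (n : ℕ) :
    (J ⊔ 𝔞) ^ n • (⊤ : Submodule A N) = J ^ n • (⊤ : Submodule A N) := by
  apply le_antisymm
  · refine (Submodule.smul_mono (sup_pow_le_pow_sup J 𝔞 n) le_rfl).trans ?_
    rw [Submodule.sup_smul]
    refine sup_le le_rfl ?_
    rw [Submodule.smul_le]
    intro a ha m _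
    rw [Module.mem_annihilator.mp (h𝔞 ha) m]
    exact Submodule.zero_mem _
  · exact Submodule.smul_mono (Ideal.pow_right_mono le_sup_left n) le_rfl

theorem samuel_sup_eq (J 𝔞 : Ideal A) (h𝔞 : 𝔞 ≤ Module.annihilator A N) :
    samuel (J ⊔ 𝔞) N = samuel J N := by
  ext n
  unfold samuel
  rw [sup_pow_smul_top_eq J 𝔞 h𝔞 n]

theorem span_range_get (l : List A) : Ideal.span (Set.range l.get) = Ideal.ofList l := by
  rw [Set.range_list_get]

end ideals

section facts

theorem hasTop_zero_of_evBinom {k : ℕ} {f : ℕ → ℤ} (h : EvBinom k f) : HasTop k f 0 :=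
  ⟨f, h, 0, fun i _ => by ring⟩

theorem samuel_of_subsingleton (I : Ideal A) (N : Type u) [AddCommGroup N] [Module A N]
    [Subsingleton N] (n : ℕ) : samuel I N n = 0 := by
  unfold samuel
  rw [Module.length_eq_zero_iff.mpr inferInstance]
  simp

theorem le_annihilator_quotient_smul_top (I : Ideal A) (N : Type u) [AddCommGroup N] [Module A N] :
    I ⊔ Module.annihilator A N ≤
      Module.annihilator A (N ⧸ I • (⊤ : Submodule A N)) := by
  refine sup_le ?_ ?_
  · intro a ha
    rw [Module.mem_annihilator]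
    intro y
    induction y using Submodule.Quotient.induction_on with
    | H n =>
      rw [← Submodule.Quotient.mk_smul, Submodule.Quotient.mk_eq_zero]
      exact Submodule.smul_mem_smul ha trivial
  · exact LinearMap.annihilator_le_of_surjective _ (Submodule.mkQ_surjective _)

variable [IsNoetherianRing A] (𝔦 : Ideal A) [IsArtinianRing (A ⧸ 𝔦)]

theorem evBinom_samuel_of_list (l : List A) (hl : Ideal.ofList l ≤ 𝔦)
    (N : Type u) [AddCommGroup N] [Module A N] [Module.Finite A N]
    (h : 𝔦 ≤ Ideal.ofList l ⊔ Module.annihilator A N) :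
    EvBinom (l.length + 1) (samuel 𝔦 N) := by
  refine evBinom_of_isFiniteLength_quotient 𝔦 l.length N l.get
    (fun i => hl (Ideal.subset_span (List.get_mem l i))) ?_
  rw [span_range_get]
  exact isFiniteLength_of_finite_of_torsion 𝔦 _ fun a ha y =>
    Module.mem_annihilator.mp (le_annihilator_quotient_smul_top _ N (h ha)) y

end facts

section main

/-- Serre's theorem for the list `l`, in a form suitable for induction -/
def SerreProp (l : List A) : Prop :=
  ∀ (𝔞 : Ideal A), IsArtinianRing (A ⧸ (Ideal.ofList l ⊔ 𝔞)) →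
    ∀ (M : Type u) [AddCommGroup M] [Module A M] [Module.Finite A M],
      𝔞 ≤ Module.annihilator A M → HasTop l.length (samuel (Ideal.ofList l ⊔ 𝔞) M) (chi l M)

theorem serreProp_nil : SerreProp ([] : List A) := by
  intro 𝔞 hArt M _ _ _ h𝔞
  haveI := hArt
  have h𝔦 : Ideal.ofList ([] : List A) ⊔ 𝔞 ≤ Module.annihilator A M := by
    rw [Ideal.ofList_nil, bot_sup_eq]
    exact h𝔞
  refine ⟨fun _ => 0, EvBinom.zero 0, 1, fun i hi => ?_⟩
  beta_reduce
  rw [chi_nil, List.length_nil, B_zero, mul_one, add_zero]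
  unfold samuel
  have hbot : (Ideal.ofList ([] : List A) ⊔ 𝔞) ^ i • (⊤ : Submodule A M) = ⊥ := by
    rw [eq_bot_iff]
    refine (Submodule.smul_mono (Ideal.pow_le_self (by omega)) le_rfl).trans ?_
    rw [Submodule.smul_le]
    intro a ha m _
    rw [Module.mem_annihilator.mp (h𝔦 ha) m]
    exact Submodule.zero_mem _
  rw [(Submodule.quotEquivOfEqBot _ hbot).length_eq]

theorem isSMulRegular_of_equiv_quotient_prime {N : Type u} [AddCommGroup N] [Module A N]
    (p : PrimeSpectrum A) (e : N ≃ₗ[A] A ⧸ p.1) (x : A) (hx : x ∉ Module.annihilator A N) :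
    IsSMulRegular N x := by
  rw [e.annihilator_eq, Ideal.annihilator_quotient] at hx
  intro n n' h
  have h' : x • n = x • n' := h
  have h2 : x • e n = x • e n' := by rw [← map_smul, ← map_smul, h']
  have h3 : Ideal.Quotient.mk p.1 x * (e n - e n') = 0 := by
    rw [mul_sub, sub_eq_zero]
    exact h2
  have hne : Ideal.Quotient.mk p.1 x ≠ 0 := by
    rw [Ne, Ideal.Quotient.eq_zero_iff_mem]
    exact hx
  rcases mul_eq_zero.mp h3 with h4 | h4
  · exact absurd h4 hne
  · exact e.injective (sub_eq_zero.mp h4)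

theorem le_annihilator_quotSMulTop (x : A) (N : Type u) [AddCommGroup N] [Module A N] (𝔞 : Ideal A)
    (h𝔞 : 𝔞 ≤ Module.annihilator A N) :
    𝔞 ⊔ Ideal.span {x} ≤ Module.annihilator A (QuotSMulTop x N) := by
  refine sup_le (h𝔞.trans (LinearMap.annihilator_le_of_surjective _ (Submodule.mkQ_surjective _))) ?_
  intro a ha
  obtain ⟨c, rfl⟩ := Ideal.mem_span_singleton'.mp ha
  rw [Module.mem_annihilator]
  intro y
  induction y using Submodule.Quotient.induction_on with
  | H n =>
    rw [← Submodule.Quotient.mk_smul, Submodule.Quotient.mk_eq_zero, mul_smul]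
    exact Submodule.smul_mem _ c (Submodule.smul_mem_pointwise_smul n x ⊤ trivial)

variable [IsNoetherianRing A]

theorem serreProp_cons (x₁ : A) (l' : List A) (ih : SerreProp l') : SerreProp (x₁ :: l') := by
  intro 𝔞 hArt M _ _ hfin h𝔞
  haveI := hArt
  set 𝔦 := Ideal.ofList (x₁ :: l') ⊔ 𝔞 with h𝔦def
  have e1 : 𝔦 = Ideal.span {x₁} ⊔ (Ideal.ofList l' ⊔ 𝔞) := by
    rw [h𝔦def, Ideal.ofList_cons, sup_assoc]
  have e2 : Ideal.ofList l' ⊔ (𝔞 ⊔ Ideal.span {x₁}) = 𝔦 := by
    rw [e1, ← sup_assoc, sup_comm]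
  have hl' : Ideal.ofList l' ≤ 𝔦 := by
    rw [← e2]
    exact le_sup_left
  have hl : Ideal.ofList (x₁ :: l') ≤ 𝔦 := le_sup_left
  have F1 : ∀ (N : Type u) [AddCommGroup N] [Module A N] [Module.Finite A N],
      𝔞 ≤ Module.annihilator A N → FinH (KC (x₁ :: l') N) := fun N _ _ _ hN =>
    finH_KC (x₁ :: l') N 𝔦 (sup_le_sup le_rfl hN)
  have F2 : ∀ (N : Type u) [AddCommGroup N] [Module A N] [Module.Finite A N],
      𝔞 ≤ Module.annihilator A N → EvBinom (l'.length + 1 + 1) (samuel 𝔦 N) := fun N _ _ _ hN =>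
    evBinom_samuel_of_list 𝔦 (x₁ :: l') hl N (sup_le_sup le_rfl hN)
  revert h𝔞
  induction hfin using IsNoetherianRing.induction_on_isQuotientEquivQuotientPrime A with
  | subsingleton N =>
    intro _
    rw [chi_of_subsingleton]
    refine ⟨fun _ => 0, EvBinom.zero _, 0, fun i _ => ?_⟩
    rw [samuel_of_subsingleton]
    ring
  | quotient N p e =>
    intro hN
    by_cases hxp : x₁ ∈ Module.annihilator A N
    · have h𝔦N : 𝔦 ≤ Ideal.ofList l' ⊔ Module.annihilator A N := by
        rw [e1]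
        refine sup_le ?_ (sup_le_sup le_rfl hN)
        exact le_sup_of_le_right ((Ideal.span_singleton_le_iff_mem _).mpr hxp)
      rw [chi_cons_eq_zero x₁ l' N hxp (finH_KC l' N 𝔦 h𝔦N)]
      exact hasTop_zero_of_evBinom (evBinom_samuel_of_list 𝔦 l' hl' N h𝔦N)
    · have hreg : IsSMulRegular N x₁ := isSMulRegular_of_equiv_quotient_prime p e x₁ hxp
      obtain ⟨a, ha⟩ := (F2 N hN).exists_hasTop
      have hArt' : IsArtinianRing (A ⧸ (Ideal.ofList l' ⊔ (𝔞 ⊔ Ideal.span {x₁}))) := by
        rw [e2]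
        infer_instance
      have ha' := ih (𝔞 ⊔ Ideal.span {x₁}) hArt' (QuotSMulTop x₁ N)
        (le_annihilator_quotSMulTop x₁ N 𝔞 hN)
      rw [e2] at ha'
      haveI : IsArtinianRing (A ⧸ (Ideal.span {x₁} ⊔ (Ideal.ofList l' ⊔ 𝔞))) := by
        rw [← e1]
        infer_instance
      have hy : ∀ n : ℕ, (Ideal.ofList l' ⊔ 𝔞) ^ n • (⊤ : Submodule A N) =
          Ideal.span (Set.range l'.get) ^ n • (⊤ : Submodule A N) := by
        intro n
        rw [span_range_get]
        exact sup_pow_smul_top_eq _ _ hN n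
      rw [e1] at ha ha'
      have hfinal := top_eq_of_regular x₁ (Ideal.ofList l' ⊔ 𝔞) hreg l'.length l'.get hy a _ ha ha'
      rw [chi_cons_of_regular x₁ l' N hreg, ← hfinal, e1]
      exact ha
  | exact N₁ N₂ N₃ f g hf hg hfg h₁ h₃ =>
    intro hN₂
    have hN₁ : 𝔞 ≤ Module.annihilator A N₁ :=
      hN₂.trans (LinearMap.annihilator_le_of_injective f hf)
    have hN₃ : 𝔞 ≤ Module.annihilator A N₃ :=
      hN₂.trans (LinearMap.annihilator_le_of_surjective g hg)
    have t₁ := (h₁ hN₁).tendsto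
    have t₃ := (h₃ hN₃).tendsto
    have t₂ := tendsto_samuel_of_exact 𝔦 (l'.length + 1) f g hf hg hfg (F2 N₁ hN₁) _ _ t₁ t₃
    obtain ⟨b, hb⟩ := (F2 N₂ hN₂).exists_hasTop
    have hlim := tendsto_nhds_unique hb.tendsto t₂
    have hb' : b = chi (x₁ :: l') N₁ + chi (x₁ :: l') N₃ := by exact_mod_cast hlim
    rw [chi_eq_add (x₁ :: l') f g hf hg hfg (F1 N₁ hN₁) (F1 N₂ hN₂) (F1 N₃ hN₃), ← hb']
    exact hb

theorem serreProp (l : List A) : SerreProp l := by
  induction l with
  | nil => exact serreProp_nil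
  | cons x₁ l' ih => exact serreProp_cons x₁ l' ih

/-- `A ⧸ (J + ann M)` is Artinian when `M/JM` has finite length -/
theorem isArtinianRing_quotient_sup_annihilator (J : Ideal A) (M : Type u) [AddCommGroup M]
    [Module A M] [Module.Finite A M]
    (hfl : IsFiniteLength A (M ⧸ J • (⊤ : Submodule A M))) :
    IsArtinianRing (A ⧸ (J ⊔ Module.annihilator A M)) := by
  apply isArtinianRing_quotient_of_forall_isMaximal
  intro p hp hle
  have hmem : (⟨p, hp⟩ : PrimeSpectrum A) ∈ Module.support A (M ⧸ J • (⊤ : Submodule A M)) := by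
    rw [Module.support_quotient]
    refine ⟨?_, ?_⟩
    · rw [Module.mem_support_iff_of_finite]
      exact le_sup_right.trans hle
    · rw [PrimeSpectrum.mem_zeroLocus]
      have : J ≤ p := le_sup_left.trans hle
      exact this
  exact isMaximal_of_mem_support_of_isFiniteLength hfl _ hmem

/-- **Serre's theorem**: the Koszul Euler characteristic `χ(l; M)` is the coefficient of
`C(n + r, r)` in the Samuel function `n ↦ ℓ(M/(l)ⁿM)`, `r` the length of `l`. -/
theorem hasTop_samuel_chi (l : List A) (M : Type u) [AddCommGroup M] [Module A M]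
    [Module.Finite A M]
    (hfl : IsFiniteLength A (M ⧸ Ideal.ofList l • (⊤ : Submodule A M))) :
    HasTop l.length (samuel (Ideal.ofList l) M) (chi l M) := by
  have h := serreProp l (Module.annihilator A M)
    (isArtinianRing_quotient_sup_annihilator (Ideal.ofList l) M hfl) M le_rfl
  rwa [samuel_sup_eq _ _ le_rfl] at h

omit [IsNoetherianRing A] in
theorem ofList_ofFn {d : ℕ} (x : Fin d → A) :
    Ideal.ofList (List.ofFn x) = Ideal.span (Set.range x) := by
  unfold Ideal.ofList
  congr 1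
  ext a
  simp [List.mem_ofFn]

/-- Serre's theorem for a family `x : Fin d → A` -/
theorem hasTop_samuel_chi_fin {d : ℕ} (x : Fin d → A) (M : Type u) [AddCommGroup M] [Module A M]
    [Module.Finite A M]
    (hfl : IsFiniteLength A (M ⧸ Ideal.span (Set.range x) • (⊤ : Submodule A M))) :
    HasTop d (samuel (Ideal.span (Set.range x)) M) (chi (List.ofFn x) M) := by
  have h := hasTop_samuel_chi (List.ofFn x) M (by rwa [ofList_ofFn])
  rwa [ofList_ofFn, List.length_ofFn] at h

end main

end Groth.Agent.Lib.Helper85.Serre
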