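import Mathlib
import Groth.Agent.Lib.Helper85.Serre.Main
import Groth.Agent.Lib.Helper85.HS.IntegralMult

/-!
# Serre's theorem in the form of the frozen statements (helper85)
-/

set_option autoImplicit false
set_option linter.style.haveILetI false
universe u

namespace Groth.Agent.Lib.Helper85.Serre

open CategoryTheory CategoryTheory.Limits Pointwise Module Filter Topology
open Groth.Agent.Lib.Helper85.HS

variable {A : Type u} [CommRing A] [IsNoetherianRing A]

/-- the Koszul Euler characteristic in the form of the frozen statements -/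
noncomputable abbrev chiT {d : ℕ} (x : Fin d → A) (M : Type u) [AddCommGroup M] [Module A M] : ℤ :=
  ∑ᶠ i : ℤ, ((i.negOnePow : ℤˣ) : ℤ) *
    ((Module.length A ((DRing.tensorCx (Koszul.koszul A (List.ofFn x))
      (ModuleCat.of A M)).homology i)).toNat : ℤ)

theorem hasTop_samuel_chiT {d : ℕ} (x : Fin d → A) (M : Type u) [AddCommGroup M] [Module A M]
    [Module.Finite A M]
    (hfl : IsFiniteLength A (M ⧸ Ideal.span (Set.range x) • (⊤ : Submodule A M))) :
    HasTop d (samuel (Ideal.span (Set.range x)) M) (chiT x M) := by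
  unfold chiT
  rw [chi_eq_tensorCx]
  exact hasTop_samuel_chi_fin x M hfl

theorem tendsto_samuel_chiT {d : ℕ} (x : Fin d → A) (M : Type u) [AddCommGroup M] [Module A M]
    [Module.Finite A M]
    (hfl : IsFiniteLength A (M ⧸ Ideal.span (Set.range x) • (⊤ : Submodule A M))) :
    Tendsto (fun n : ℕ => (d.factorial : ℝ) *
        ((Module.length A (M ⧸ (Ideal.span (Set.range x) ^ n • (⊤ : Submodule A M)))).toNat : ℝ) /
          (n : ℝ) ^ d)
      atTop (𝓝 ((chiT x M : ℤ) : ℝ)) := by
  have h := (hasTop_samuel_chiT x M hfl).tendsto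
  simp only [samuel, Int.cast_natCast] at h
  exact h

omit [IsNoetherianRing A] in
theorem cast_chiT {d : ℕ} (x : Fin d → A) (M : Type u) [AddCommGroup M] [Module A M] :
    ((chiT x M : ℤ) : ℝ) = ∑ᶠ i : ℤ, ((((i.negOnePow : ℤˣ) : ℤ) : ℤ) : ℝ) *
      ((((Module.length A ((DRing.tensorCx (Koszul.koszul A (List.ofFn x))
        (ModuleCat.of A M)).homology i)).toNat : ℤ) : ℤ) : ℝ) := by
  unfold chiT
  have := (Int.castAddHom ℝ).map_finsum_of_injective Int.cast_injective
    (fun i : ℤ => ((i.negOnePow : ℤˣ) : ℤ) *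
      ((Module.length A ((DRing.tensorCx (Koszul.koszul A (List.ofFn x))
        (ModuleCat.of A M)).homology i)).toNat : ℤ))
  simp only [Int.coe_castAddHom, Int.cast_mul] at this
  exact this

theorem isFiniteLength_quotient_of_pow_le [IsLocalRing A] (I : Ideal A)
    (hI : ∃ n : ℕ, IsLocalRing.maximalIdeal A ^ n ≤ I) (M : Type u) [AddCommGroup M] [Module A M]
    [Module.Finite A M] : IsFiniteLength A (M ⧸ I • (⊤ : Submodule A M)) := by
  haveI : IsArtinianRing (A ⧸ I) := isArtinianRing_quotient_of_forall_isMaximal I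
    fun p hp hle => isMaximal_of_pow_maximalIdeal_le I hI p hp hle
  exact isFiniteLength_of_finite_of_torsion I _ fun a ha y =>
    Module.mem_annihilator.mp (le_annihilator_quotient_smul_top I M (Ideal.mem_sup_left ha)) y

end Groth.Agent.Lib.Helper85.Serre
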