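import Mathlib
import Groth.Agent.Lib.Helper85.Serre.Final
import Groth.Agent.Lib.Helper85.HS.Mult
import Groth.Agent.Lib.Helper85.HS.Primary

/-!
# Vanishing and positivity of the Koszul Euler characteristic (helper85)
-/

set_option autoImplicit false
set_option linter.style.haveILetI false
universe u

namespace Groth.Agent.Lib.Helper85.Serre

open CategoryTheory CategoryTheory.Limits Pointwise Module Filter Topology
open Groth.Agent.Lib.Helper85.HS

variable {A : Type u} [CommRing A] [IsNoetherianRing A]

omit [IsNoetherianRing A] in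
theorem isMaximal_of_sup_annihilator_le (J : Ideal A) (M : Type u) [AddCommGroup M]
    [Module A M] [Module.Finite A M]
    (hfl : IsFiniteLength A (M ⧸ J • (⊤ : Submodule A M))) (p : Ideal A) (hp : p.IsPrime)
    (hle : J ⊔ Module.annihilator A M ≤ p) : p.IsMaximal := by
  have hmem : (⟨p, hp⟩ : PrimeSpectrum A) ∈ Module.support A (M ⧸ J • (⊤ : Submodule A M)) := by
    rw [Module.support_quotient]
    refine ⟨?_, ?_⟩
    · rw [Module.mem_support_iff_of_finite]
      exact le_sup_right.trans hle
    · rw [PrimeSpectrum.mem_zeroLocus]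
      have : J ≤ p := le_sup_left.trans hle
      exact this
  exact isMaximal_of_mem_support_of_isFiniteLength hfl _ hmem

theorem lt_natCast_succ_iff (a : WithBot ℕ∞) (k : ℕ) :
    a < ((k + 1 : ℕ) : WithBot ℕ∞) ↔ a ≤ (k : WithBot ℕ∞) := by
  induction a with
  | bot => simp
  | coe a =>
    induction a with
    | top =>
      have h2 : ∀ j : ℕ, ((j : ℕ) : WithBot ℕ∞) = ((j : ℕ∞) : WithBot ℕ∞) := fun _ => rfl
      constructor
      · intro h
        exfalso
        rw [h2, WithBot.coe_lt_coe] at h
        exact not_top_lt h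
      · intro h
        exfalso
        rw [h2, WithBot.coe_le_coe, top_le_iff] at h
        exact ENat.natCast_ne_top k h
    | coe n =>
      have h1 : ((n : ℕ∞) : WithBot ℕ∞) = ((n : ℕ) : WithBot ℕ∞) := rfl
      rw [h1, Nat.cast_lt, Nat.cast_le]
      omega

/-- **S8153**: `χ(x; M) = 0` when `dim M < d` -/
theorem chiT_eq_zero_of_supportDim_lt {d : ℕ} (x : Fin d → A) (M : Type u) [AddCommGroup M]
    [Module A M] [Module.Finite A M]
    (hfl : IsFiniteLength A (M ⧸ Ideal.span (Set.range x) • (⊤ : Submodule A M)))
    (hdim : Module.supportDim A M < (d : WithBot ℕ∞)) : chiT x M = 0 := by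
  have htop := hasTop_samuel_chiT x M hfl
  refine htop.unique ?_
  cases d with
  | zero =>
    have hbot : Module.supportDim A M = ⊥ := by
      have h0 : Module.supportDim A M < 0 := by simpa using hdim
      exact WithBot.lt_coe_bot.mp h0
    haveI : Subsingleton M := (Module.supportDim_eq_bot_iff_subsingleton A M).mp hbot
    refine ⟨fun _ => 0, EvBinom.zero 0, 0, fun i _ => ?_⟩
    rw [samuel_of_subsingleton]
    ring
  | succ k =>
    rw [lt_natCast_succ_iff] at hdim
    set J := Ideal.span (Set.range x) with hJ
    haveI := isArtinianRing_quotient_sup_annihilator J M hfl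
    have hev := evBinom_samuel_of_supportDim_le (J ⊔ Module.annihilator A M)
      (isMaximal_of_sup_annihilator_le J M hfl) k M hdim
    rw [samuel_sup_eq _ _ le_rfl] at hev
    exact hasTop_zero_of_evBinom hev

/-- **S8154**: `χ(x; M) > 0` when `dim M = d` -/
theorem chiT_pos_of_supportDim_eq [IsLocalRing A] {d : ℕ} (x : Fin d → A)
    (hx : ∀ j, x j ∈ IsLocalRing.maximalIdeal A) (M : Type u) [AddCommGroup M]
    [Module A M] [Module.Finite A M]
    (hfl : IsFiniteLength A (M ⧸ Ideal.span (Set.range x) • (⊤ : Submodule A M)))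
    (hdim : Module.supportDim A M = (d : WithBot ℕ∞)) : 0 < chiT x M := by
  have htop := hasTop_samuel_chiT x M hfl
  set J := Ideal.span (Set.range x) with hJ
  haveI := isArtinianRing_quotient_sup_annihilator J M hfl
  haveI : Nontrivial M := by
    rw [← Module.supportDim_ne_bot_iff_nontrivial A M, hdim]
    exact WithBot.coe_ne_bot
  have hJr : J ⊔ Module.annihilator A M ≤ Ring.jacobson A := by
    rw [IsLocalRing.ringJacobson_eq_maximalIdeal]
    refine sup_le ?_ ?_
    · rw [hJ, Ideal.span_le]
      rintro _ ⟨j, rfl⟩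
      exact hx j
    · apply IsLocalRing.le_maximalIdeal
      intro htop'
      have h1 : (1 : A) ∈ Module.annihilator A M := by rw [htop']; trivial
      obtain ⟨m, hm⟩ := exists_ne (0 : M)
      exact hm (by simpa using Module.mem_annihilator.mp h1 m)
  obtain ⟨a, h, hpos, hh, N, hfa⟩ := exists_top_pos (J ⊔ Module.annihilator A M)
    (isMaximal_of_sup_annihilator_le J M hfl) hJr d M hdim
  have htop' : HasTop d (samuel J M) a := by
    rw [← samuel_sup_eq J (Module.annihilator A M) le_rfl]
    exact ⟨h, hh, N, hfa⟩
  rw [htop.unique htop']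
  exact hpos

end Groth.Agent.Lib.Helper85.Serre
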