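import Mathlib
import Groth.Agent.Lib.Helper85.Serre.KoszulTor
import Groth.Agent.Lib.Helper85.Serre.Final
import Groth.Prelude.Def_IntMult

/-!
# Samuel multiplicity of a regular sequence as the Euler characteristic of `Tor` (helper85)
-/

set_option autoImplicit false
set_option linter.style.haveILetI false
universe u

namespace Groth.Agent.Lib.Helper85.KTor

open CategoryTheory CategoryTheory.Limits CohIII Pointwise Filter Topology
open Groth.Agent.Lib.Helper12.Koszul
open Groth.Agent.Lib.Helper85.Serre Groth.Agent.Lib.Helper85.HS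

variable {A : Type u} [CommRing A]

theorem sgn_neg_natCast (n : ℕ) : sgn (-(n : ℤ)) = (-1 : ℤ) ^ n := by
  unfold sgn
  rw [Int.negOnePow_neg, Int.negOnePow_def]
  simp

theorem altSum_eq_finsum_nat (f : ℤ → ℤ) (h : ∀ i : ℤ, 0 < i → f i = 0) :
    altSum f = ∑ᶠ n : ℕ, (-1 : ℤ) ^ n * f (-(n : ℤ)) := by
  unfold altSum
  have hinj : Function.Injective (fun n : ℕ => -(n : ℤ)) := by
    intro a b hab
    simpa using hab
  have h1 := finsum_mem_range (f := fun i => sgn i * f i) hinj
  simp only [sgn_neg_natCast] at h1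
  rw [← h1, ← finsum_mem_univ]
  apply finsum_mem_inter_support_eq
  ext i
  simp only [Set.univ_inter, Set.mem_inter_iff, Set.mem_range, Function.mem_support]
  constructor
  · intro hi
    refine ⟨?_, hi⟩
    by_contra hcon
    apply hi
    rw [h i, mul_zero]
    by_contra hle
    apply hcon
    exact ⟨(-i).toNat, by omega⟩
  · exact fun hi => hi.2

/-- `χ(l; M) = Σ (-1)ⁿ ℓ(Torₙ(A/(l), M))` for a regular sequence `l` -/
theorem chi_eq_finsum_tor (l : List A) (hreg : RingTheory.Sequence.IsWeaklyRegular A l)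
    (M : Type u) [AddCommGroup M] [Module A M] :
    chi l M = ∑ᶠ n : ℕ, (-1 : ℤ) ^ n *
      ((Module.length A (DRing.Tor A n (A ⧸ Ideal.ofList l) M)).toNat : ℤ) := by
  unfold chi euler
  rw [altSum_eq_finsum_nat _ (fun i hi => hlen_eq_zero_of_isZero _ i
    (isZero_homology_koszulCx_of_pos _ l i hi))]
  congr 1
  ext n
  congr 1
  unfold hlen
  obtain ⟨e⟩ := nonempty_linearEquiv_tor l hreg n M
  rw [e.length_eq]

theorem chiT_eq_intMult_chi {c : ℕ} (g : Fin c → A)
    (hreg : RingTheory.Sequence.IsWeaklyRegular A (List.ofFn g))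
    (M : Type u) [AddCommGroup M] [Module A M] :
    chiT g M = IntMult.chi A (A ⧸ Ideal.span (Set.range g)) M := by
  unfold chiT
  rw [chi_eq_tensorCx, chi_eq_finsum_tor _ hreg]
  unfold IntMult.chi
  have key : ∀ J : Ideal A, J = Ideal.span (Set.range g) →
      (∑ᶠ n : ℕ, (-1 : ℤ) ^ n * ((Module.length A (DRing.Tor A n (A ⧸ J) M)).toNat : ℤ)) =
      ∑ᶠ n : ℕ, (-1 : ℤ) ^ n *
        ((Module.length A (DRing.Tor A n (A ⧸ Ideal.span (Set.range g)) M)).toNat : ℤ) := by
    rintro J rfl
    rfl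
  exact key _ (ofList_ofFn g)

/-- **S1914** -/
theorem tendsto_samuel_intMult_chi [IsNoetherianRing A] {c : ℕ} (g : Fin c → A)
    (hreg : RingTheory.Sequence.IsWeaklyRegular A (List.ofFn g))
    (M : Type u) [AddCommGroup M] [Module A M] [Module.Finite A M]
    (h0 : Module.supportDim A (M ⧸ (Ideal.span (Set.range g) • (⊤ : Submodule A M))) ≤ 0) :
    Tendsto (fun t : ℕ => (c.factorial : ℝ) *
        ((Module.length A (M ⧸ (Ideal.span (Set.range g) ^ t • (⊤ : Submodule A M)))).toNat : ℝ) /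
          (t : ℝ) ^ c)
      atTop (𝓝 (IntMult.chi A (A ⧸ Ideal.span (Set.range g)) M : ℝ)) := by
  have hfl := isFiniteLength_of_supportDim_le_zero _ h0
  have h := tendsto_samuel_chiT g M hfl
  rwa [chiT_eq_intMult_chi g hreg M] at h

end Groth.Agent.Lib.Helper85.KTor
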